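import Cfsg.Agent.TIM.Ab
import Cfsg.Agent.Gold.Cm
import Cfsg.Agent.Local.CharP
import Cfsg.Agent.Trans.GenFitting

/-! # TIM: abelian large 2-subgroups -/

set_option autoImplicit false

namespace Cfsg.Lib.TIM

open Subgroup Cfsg.Lib.Trans Cfsg.Lib.Gold
open scoped commutatorElement

variable {G : Type*} [Group G] {S T : Set (Subgroup G)} {A Q Q' R P F F' : Subgroup G} {g x : G}

theorem asys_cls (h1 : ∀ a ∈ Q, ∀ b ∈ Q, a * b = b * a) (hp : IsPGroup 2 Q)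
    (h2 : ∀ g : G, ∀ x ∈ Q, x ∈ cj g Q → x ≠ 1 → cj g Q = Q) : ASys (Cls Q) where
  comm := by
    rintro _ ⟨g, rfl⟩ a b ha hb
    have := h1 _ (mem_cj.1 ha) _ (mem_cj.1 hb)
    calc a * b = g * (g⁻¹ * a * g * (g⁻¹ * b * g)) * g⁻¹ := by group
      _ = b * a := by rw [this]; group
  pgroup := by
    rintro _ ⟨g, rfl⟩
    exact isPGroup_cj hp g
  conj := by
    rintro _ ⟨g, rfl⟩ k
    exact ⟨k * g, (cj_mul _ _ _).symm⟩
  trans := by
    rintro _ _ ⟨g, rfl⟩ ⟨k, rfl⟩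
    exact ⟨k * g⁻¹, by rw [cj_mul, cj_inv_cj]⟩
  ti := by
    rintro _ _ ⟨g, rfl⟩ ⟨k, rfl⟩ hne x hx hx'
    by_contra h
    refine hne ?_
    have e := h2 (g⁻¹ * k) (g⁻¹ * x * g) (mem_cj.1 hx)
      (by rw [cj_mul, mem_cj_inv]; simpa [mul_assoc] using hx')
      (fun e => h (by
        calc x = g * (g⁻¹ * x * g) * g⁻¹ := by group
          _ = 1 := by rw [e]; group))
    rw [cj_mul] at e
    rw [← cj_cj_inv g (cj k Q), e]

theorem wc_cls (h3 : ∀ g : G, cj g Q ≤ Ns Q → cj g Q = Q) (hF : F ∈ Cls Q) (hF' : F' ∈ Cls Q)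
    (hle : F' ≤ Ns F) : F' = F := by
  obtain ⟨g, rfl⟩ := hF
  obtain ⟨k, rfl⟩ := hF'
  have e := h3 (g⁻¹ * k) (by rw [cj_mul, cj_inv_le_iff_le_cj, cj_normalizer]; exact hle)
  rw [cj_mul] at e
  rw [← cj_cj_inv g (cj k Q), e]

variable [Finite G]

theorem exists_inv (hp : IsPGroup 2 P) (h1 : P ≠ ⊥) : ∃ v ∈ P, v ≠ 1 ∧ v * v = 1 := by
  have : Nontrivial P := (Subgroup.nontrivial_iff_ne_bot P).2 h1
  obtain ⟨k, hk, e⟩ := hp.nontrivial_iff_card.1 this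
  have : Fact (Nat.Prime 2) := ⟨Nat.prime_two⟩
  obtain ⟨v, hv⟩ := exists_prime_orderOf_dvd_card' (G := P) 2 (e ▸ dvd_pow_self 2 hk.ne')
  refine ⟨v, v.2, fun e => ?_, ?_⟩
  · rw [show v = 1 from Subtype.ext e, orderOf_one] at hv
    omega
  · have := pow_orderOf_eq_one v
    rw [hv, pow_two] at this
    exact congrArg Subtype.val this

/-- Two points normalising and normalised by a 2-group meeting both form a quadratic pair. -/
theorem ASys.qp_of (h : ASys T) (hQ : Q ∈ T) (hQ' : Q' ∈ T) (hne : Q ≠ Q') (h1 : Q ≤ Ns R)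
    (h1' : Q' ≤ Ns R) (h2 : R ≤ Ns Q) (h2' : R ≤ Ns Q') (h3 : Q ⊓ R ≠ ⊥) (h3' : Q' ⊓ R ≠ ⊥)
    (h4 : ¬ Q ≤ Ns Q') (h4' : ¬ Q' ≤ Ns Q) :
    QP T Q Q' ∧ (∀ u ∈ Nm Q Q', u * u = 1) ∧ ∀ u ∈ Nm Q' Q, u * u = 1 := by
  obtain ⟨v, hv, v1, v2⟩ := exists_inv ((h.pgroup hQ).to_inf_left (K := R)) h3
  obtain ⟨w, hw, w1, w2⟩ := exists_inv ((h.pgroup hQ').to_inf_left (K := R)) h3'
  have hv' : v ∈ Nm Q Q' := ⟨hv.1, h2' hv.2⟩
  have hw' : w ∈ Nm Q' Q := ⟨hw.1, h2 hw.2⟩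
  obtain ⟨a1, a2, a3⟩ := h.half hQ hQ' hne hw' w1 w2 fun x hx =>
    ⟨comm_mem_left hw'.2 hx, h2' (comm_mem_right (h1 hx) hw.2)⟩
  obtain ⟨b1, b2, b3⟩ := h.half hQ' hQ hne.symm hv' v1 v2 fun x hx =>
    ⟨comm_mem_left hv'.2 hx, h2 (comm_mem_right (h1' hx) hv.2)⟩
  have t1 : ∃ x ∈ Q, x ∉ Nm Q Q' := by
    by_contra hc
    push Not at hc
    exact h4 fun x hx => (hc x hx).2
  have t2 : ∃ x ∈ Q', x ∉ Nm Q' Q := by
    by_contra hc
    push Not at hc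
    exact h4' fun x hx => (hc x hx).2
  exact ⟨⟨hQ, hQ', hne, fun e => v1 (mem_bot.1 (e ▸ hv')), fun e => w1 (mem_bot.1 (e ▸ hw')), t1,
    t2, fun x hx u hu => (a2 x hx u hu).1, fun x hx u hu => (b2 x hx u hu).1, a1, b1⟩, b3 t2, a3 t1⟩

/-- The normal closure of the points is simple and is the generalized Fitting subgroup. -/
theorem Sys.almost_simple (h : Sys S) (hA : A ∈ S) (h4 : 4 ≤ Nat.card A) (hO : pCore 2 G = ⊥)
    (hC : Cs (Yc S) = ⊥) : IsSimpleGroup (Yc S) ∧ ¬ IsMulCommutative (Yc S) ∧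
      generalizedFittingSubgroup G = Yc S := by
  have hn := h.Yc_normal
  have h1 := h.sub hA (le_Yc hA)
  have hO' : pCore 2 (Yc S) = ⊥ := by
    have := Solv.map_pCore_le_of_normal (p := 2) (Yc S)
    rw [hO, le_bot_iff, map_eq_bot_iff_of_injective _ (subtype_injective _)] at this
    exact this
  have hZ : center (Yc S) = ⊥ := eq_bot_iff.2 fun x hx => by
    have : x.1 ∈ Cs (Yc S) := mem_Cs.2 fun u hu =>
      congrArg Subtype.val (mem_center_iff.1 hx ⟨u, hu⟩)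
    rw [hC, mem_bot] at this
    exact mem_bot.2 (Subtype.ext this)
  obtain ⟨h2, h3⟩ := h1.simple (h.Yc_sub hA) (self_mem_SubS _ A)
    (by rwa [Nat.card_congr (subgroupOfEquivOfLe (le_Yc hA)).toEquiv]) (by rw [hO', inf_bot_eq]) hZ
  have hK : IsComponent (Yc S) :=
    ⟨Subgroup.Normal.isSubnormal hn, isQuasisimple_of_isSimpleGroup h3⟩
  refine ⟨h2, h3, le_antisymm ?_ (IsComponent.le_genFitting hK)⟩
  have := IsComponent.genFitting_le_sup_centralizer hK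
  rwa [show centralizer (Yc S : Set G) = ⊥ from hC, sup_bot_eq] at this

/-- An abelian large 2-subgroup. -/
structure Lg (Q : Subgroup G) : Prop where
  comm : ∀ a ∈ Q, ∀ b ∈ Q, a * b = b * a
  pgroup : IsPGroup 2 Q
  cent : Cs Q ≤ Q
  norm : ∀ U ≤ Q, U ≠ ⊥ → Ns U ≤ Ns Q
  ne_bot : Q ≠ ⊥

namespace Lg

theorem sylow (h : Lg Q) (hP : IsPGroup 2 P) (hQP : Q ≤ P) : Ns P ≤ Ns Q := by
  obtain ⟨z, hz, z1, hc⟩ := exists_fix hP hP le_normalizer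
    (fun e => h.ne_bot (eq_bot_iff.2 (e ▸ hQP)))
  refine le_trans (le_Ns_inf le_rfl (le_Ns_Cs le_rfl)) (h.norm (P ⊓ Cs P)
    (inf_le_right.trans ((Cs_anti hQP).trans h.cent)) fun e => z1 (mem_bot.1 (e ▸ ?_)))
  exact ⟨hz, mem_Cs.2 fun p hp => (hc p hp).symm⟩

theorem wc (h : Lg Q) (g : G) (hg : cj g Q ≤ Ns Q) : cj g Q = Q := by
  have : Fact (Nat.Prime 2) := ⟨Nat.prime_two⟩
  obtain ⟨P, hP, hle⟩ := exists_isSylowIn_ge (pgroup_sup (isPGroup_cj h.pgroup g) h.pgroup hg)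
    (le_top (a := cj g Q ⊔ Q))
  have h1 : P ≤ Ns Q := le_normalizer.trans (h.sylow hP.isPGroup (le_sup_right.trans hle))
  have hP' := hP.cj_of_mem (mem_top g⁻¹)
  have h2 : cj g⁻¹ P ≤ Ns Q := le_normalizer.trans (h.sylow hP'.isPGroup
    (cj_le_iff_le_cj_inv.1 (le_sup_left.trans hle)))
  obtain ⟨n, hn, e⟩ := (hP'.mono h2 le_top).exists_cj_eq (hP.mono h1 le_top)
  have h3 : g * n ∈ Ns P := mem_Ns_iff.2 (by rw [cj_mul, e, cj_cj_inv])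
  have h4 := mul_mem (h.sylow hP.isPGroup (le_sup_right.trans hle) h3) (inv_mem hn)
  rw [mul_inv_cancel_right] at h4
  exact mem_Ns_iff.1 h4

theorem asys (h : Lg Q) : ASys (Cls Q) := by
  refine asys_cls h.comm h.pgroup fun g x hx hx' h1 => h.wc g fun y hy => ?_
  refine h.norm (zpowers x) (zpowers_le.2 hx) (by simpa using h1) (Cs_le_Ns ?_)
  rw [Cs_zpowers, mem_C1]
  have := h.comm _ (mem_cj.1 hy) _ (mem_cj.1 hx')
  calc y * x = g * (g⁻¹ * y * g * (g⁻¹ * x * g)) * g⁻¹ := by group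
    _ = x * y := by rw [this]; group

/-- The conjugates of `Q` under a 2-local subgroup containing a Sylow subgroup. -/
theorem qp (h : Lg Q) (hP : IsPGroup 2 P) (hQP : Q ≤ P) (hRP : R ≤ P) (hR1 : R ≠ ⊥)
    (hPR : P ≤ Ns R) {g k : G} (hg : g ∈ Ns R) (hk : k ∈ Ns R) (hne : cj g Q ≠ cj k Q) :
    QP (Cls Q) (cj g Q) (cj k Q) ∧ (∀ u ∈ Nm (cj g Q) (cj k Q), u * u = 1) ∧
      ∀ u ∈ Nm (cj k Q) (cj g Q), u * u = 1 := by
  have k1 : ∀ g ∈ Ns R, cj g Q ≤ Ns R := fun g hg => cj_le_of_mem_of_le hg (hQP.trans hPR)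
  have k2 : ∀ g ∈ Ns R, R ≤ Ns (cj g Q) := fun g hg => by
    rw [← cj_Ns, ← mem_Ns_iff.1 hg]
    exact cj_mono g (hRP.trans (le_normalizer.trans (h.sylow hP hQP)))
  have k3 : ∀ g ∈ Ns R, cj g Q ⊓ R ≠ ⊥ := fun g hg => by
    obtain ⟨z, hz, z1, hc⟩ := exists_fix hP (hP.to_le hRP) hPR hR1
    have hzQ : z ∈ Q := h.cent (mem_Cs.2 fun p hp => (hc p (hQP hp)).symm)
    rw [← mem_Ns_iff.1 hg, ← cj_inf, Ne, cj_eq_bot]
    exact fun e => z1 (mem_bot.1 (e ▸ mem_inf.2 ⟨hzQ, hz⟩))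
  exact h.asys.qp_of (cj_mem_Cls g Q) (cj_mem_Cls k Q) hne (k1 g hg) (k1 k hk) (k2 g hg) (k2 k hk)
    (k3 g hg) (k3 k hk) (fun e => hne (wc_cls h.wc (cj_mem_Cls k Q) (cj_mem_Cls g Q) e))
    fun e => hne (wc_cls h.wc (cj_mem_Cls g Q) (cj_mem_Cls k Q) e).symm

/-- Elements centralising `Ω₁(Q)` with `[Q, u] ≤ Ω₁(Q)` lie in `O₂(N(Q))`. -/
theorem mem_core (h : Lg Q) {u : G} (hu : u ∈ Ns Q) (h1 : ∀ a ∈ Q, a * a = 1 → u * a = a * u)
    (h2 : ∀ x ∈ Q, ⁅x, u⁆ * ⁅x, u⁆ = 1) : u ∈ pCoreOf 2 (Ns Q) := by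
  have hT := h.asys
  have hQ := self_mem_Cls Q
  let K : Subgroup G :=
    { carrier := {u | u ∈ Ns Q ∧ (∀ a ∈ Q, a * a = 1 → u * a = a * u) ∧
        ∀ x ∈ Q, ⁅x, u⁆ * ⁅x, u⁆ = 1}
      one_mem' := ⟨one_mem _, by simp, by simp⟩
      mul_mem' := by
        rintro u v ⟨u1, u2, u3⟩ ⟨v1, v2, v3⟩
        refine ⟨mul_mem u1 v1, fun a ha a2 => by
          rw [mul_assoc, v2 a ha a2, ← mul_assoc, u2 a ha a2, mul_assoc], fun x hx => ?_⟩
        have c1 : ⁅x, u * v⁆ = ⁅x, u⁆ * (u * ⁅x, v⁆ * u⁻¹) := by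
          simp only [commutatorElement_def]; group
        have c2 := comm_mem_left v1 hx
        rw [c1, u2 _ c2 (v3 x hx), mul_inv_cancel_right]
        have c3 := h.comm _ (comm_mem_left u1 hx) _ c2
        calc _ = ⁅x, u⁆ * (⁅x, v⁆ * ⁅x, u⁆) * ⁅x, v⁆ := by simp only [mul_assoc]
          _ = ⁅x, u⁆ * ⁅x, u⁆ * (⁅x, v⁆ * ⁅x, v⁆) := by rw [← c3]; simp only [mul_assoc]
          _ = 1 := by rw [u3 x hx, v3 x hx, mul_one]
      inv_mem' := by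
        rintro u ⟨u1, u2, u3⟩
        refine ⟨inv_mem u1, fun a ha a2 => (Commute.inv_left (u2 a ha a2)).eq, fun x hx => ?_⟩
        have c1 : ⁅x, u⁻¹⁆ = u⁻¹ * ⁅x, u⁆⁻¹ * u := by
          simp only [commutatorElement_def]; group
        rw [c1]
        calc _ = u⁻¹ * (⁅x, u⁆ * ⁅x, u⁆)⁻¹ * u := by group
          _ = 1 := by rw [u3 x hx]; group }
  have hK : ∀ v ∈ K, v * v ∈ Q := fun v ⟨v1, v2, v3⟩ => h.cent (mem_Cs.2 fun x hx => by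
    have c1 : ⁅x, v * v⁆ = ⁅x, v⁆ * (v * ⁅x, v⁆ * v⁻¹) := by
      simp only [commutatorElement_def]; group
    rw [v2 _ (comm_mem_left v1 hx) (v3 x hx), mul_inv_cancel_right, v3 x hx] at c1
    exact commutatorElement_eq_one_iff_mul_comm.1 c1)
  refine Local.le_pCoreOf (N := K) (fun v hv => hv.1) (fun n hn => ?_) (fun v => ?_) ⟨hu, h1, h2⟩
  · refine mem_normalizer_of_cj_le (cj_le_iff.2 fun v ⟨v1, v2, v3⟩ => ⟨mul_mem (mul_mem hn v1)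
      (inv_mem hn), fun a ha a2 => ?_, fun x hx => ?_⟩)
    · have := v2 _ (mem_normalizer_conj' hn ha) (by
        calc n⁻¹ * a * n * (n⁻¹ * a * n) = n⁻¹ * (a * a) * n := by group
          _ = 1 := by rw [a2]; group)
      calc n * v * n⁻¹ * a = n * (v * (n⁻¹ * a * n)) * n⁻¹ := by group
        _ = _ := by rw [this]; group
    · have := v3 _ (mem_normalizer_conj' hn hx)
      calc _ = n * (⁅n⁻¹ * x * n, v⁆ * ⁅n⁻¹ * x * n, v⁆) * n⁻¹ := by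
            simp only [commutatorElement_def]; group
        _ = 1 := by rw [this]; group
  · obtain ⟨k, hk⟩ := h.pgroup ⟨_, hK v.1 v.2⟩
    refine ⟨k + 1, Subtype.ext ?_⟩
    have := congrArg Subtype.val hk
    simp only [SubgroupClass.coe_pow, OneMemClass.coe_one] at this ⊢
    rw [pow_succ', pow_mul, pow_two, this]

theorem sq (h : Lg Q) (hb : pCoreOf 2 (Ns Q) ≤ Q) (hP : IsPGroup 2 P) (hQP : Q ≤ P)
    (hRP : R ≤ P) (hR1 : R ≠ ⊥) (hPR : P ≤ Ns R) (hg : g ∈ Ns R) (hne : cj g Q ≠ Q) :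
    ∀ y ∈ Q, y * y = 1 := by
  intro y hy
  by_contra hy2
  have hT := h.asys
  obtain ⟨hq, e1, e2⟩ := h.qp hP hQP hRP hR1 hPR (one_mem _) hg (by rw [cj_one]; exact hne.symm)
  rw [cj_one] at hq e1 e2
  have hle : Q ⊔ cj g Q ≤ Ns R :=
    sup_le (hQP.trans hPR) (cj_le_of_mem_of_le hg (hQP.trans hPR))
  by_cases ha : ∃ a ∈ Q, a * a = 1 ∧ a ∉ Nm Q (cj g Q)
  · obtain ⟨a, ha, a2, ha'⟩ := ha
    refine hT.dih hq ha ha' a2 (conj_mem_cj.2 hy) (fun e => hy2 ?_) fun d hd F hF hn => ?_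
    · calc y * y = g⁻¹ * (g * y * g⁻¹ * (g * y * g⁻¹)) * g := by group
        _ = 1 := by rw [e]; group
    · rw [cj_cj] at hn ⊢
      rcases hF with rfl | rfl
      · have := (h.qp hP hQP hRP hR1 hPR (mul_mem (hle hd) hg) (one_mem _)
          (by rwa [cj_one])).2.1
        rwa [cj_one] at this
      · exact (h.qp hP hQP hRP hR1 hPR (mul_mem (hle hd) hg) hg hn).2.1
  · push Not at ha
    obtain ⟨u, hu, u1⟩ := (Nm (cj g Q) Q).bot_or_exists_ne_one.resolve_left hq.ne_bot'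
    refine u1 (hT.ti hq.left hq.right hq.ne (hb (h.mem_core hu.2 (fun a ha' a2 => ?_)
      fun x hx => e1 _ (hq.quad x hx u hu))) hu.1)
    exact (hT.Nm_comm hq.left hq.right hq.ne (ha a ha' a2) hu).symm

end Lg

end Cfsg.Lib.TIM
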